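import Mathlib.CategoryTheory.Abelian.Injective.Ext
import Mathlib.Algebra.Category.Grp.Adjunctions
import Mathlib.CategoryTheory.Sites.ConstantSheaf
import Mathlib.CategoryTheory.Sites.SheafCohomology.Basic
import Mathlib.CategoryTheory.Adjunction.Additive

/-!
`Ext` groups as cycles modulo boundaries of maps into an injective resolution.
-/

set_option autoImplicit false
universe w v u w'

open CategoryTheory CategoryTheory.Limits Abelian CochainComplex.HomComplex Opposite

namespace Groth.Agent.EtDesc45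

section ext

variable {C : Type u} [Category.{v} C] [Abelian C] [HasExt.{w} C] {X G : C} (R : InjectiveResolution G)

theorem extMk_zero_iff (f : X ⟶ R.cocomplex.X 0) (hf : f ≫ R.cocomplex.d 0 1 = 0) :
    R.extMk f 1 rfl hf = 0 ↔ f = 0 := by
  refine ⟨fun h => ?_, fun h => by simp [h]⟩
  rw [← R.extEquivCohomologyClass.apply_eq_iff_eq, InjectiveResolution.extEquivCohomologyClass_extMk,
    InjectiveResolution.extEquivCohomologyClass_zero, CohomologyClass.mk_eq_zero_iff,
    Cocycle.fromSingleMk_mem_coboundaries_iff _ _ _ _ _ (-1 : ℤ) (by lia)] at h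
  obtain ⟨g, hg⟩ := h
  have : g = 0 := (CochainComplex.isZero_of_isStrictlyGE R.cochainComplex 0 (-1) (by lia)).eq_of_tgt _ _
  rw [this, zero_comp] at hg
  exact (cancel_mono (R.cochainComplexXIso 0 0 rfl).inv).1 (hg.symm.trans zero_comp.symm)

variable {M : ℕ → Type w'} [∀ n, AddCommGroup (M n)] (sec : ∀ n, (X ⟶ R.cocomplex.X n) ≃+ M n)
  (d : ∀ n, M n →+ M (n + 1))

/-- Cocycles onto `Ext`, with boundaries as kernel. -/
theorem exists_theta (hd : ∀ n f, sec (n + 1) (f ≫ R.cocomplex.d n (n + 1)) = d n (sec n f)) (n : ℕ) :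
    ∃ θ : (d n).ker →+ Ext.{w} X G n, Function.Surjective θ ∧
      ∀ x, θ x = 0 ↔ ((n = 0 ∧ (x : M n) = 0) ∨ ∃ q, ∃ he : q + 1 = n, ∃ y : M q,
        he ▸ d q y = (x : M n)) := by
  have hcy : ∀ x : (d n).ker, (sec n).symm x.1 ≫ R.cocomplex.d n (n + 1) = 0 := fun x =>
    (sec (n + 1)).injective (by
      rw [hd, AddEquiv.apply_symm_apply, map_zero]
      exact x.2)
  let θ : (d n).ker →+ Ext.{w} X G n :=
    AddMonoidHom.mk' (fun x => R.extMk ((sec n).symm x.1) (n + 1) rfl (hcy x)) fun a b => by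
      rw [InjectiveResolution.add_extMk]
      congr 1
      exact map_add (sec n).symm a.1 b.1
  refine ⟨θ, fun α => ?_, fun x => ?_⟩
  · obtain ⟨f, hf, rfl⟩ := R.extMk_surjective α (n + 1) rfl
    refine ⟨⟨sec n f, ?_⟩, ?_⟩
    · change d n (sec n f) = 0
      rw [← hd, hf, map_zero]
    · have key : ∀ (a : X ⟶ R.cocomplex.X n) (ha : a ≫ R.cocomplex.d n (n + 1) = 0), a = f →
          R.extMk a (n + 1) rfl ha = R.extMk f (n + 1) rfl hf := by
        rintro a ha rfl
        rfl
      exact key _ (by rw [show ((⟨sec n f, _⟩ : (d n).ker) : M n) = sec n f from rfl, AddEquiv.symm_apply_apply]; exact hf) ((sec n).symm_apply_apply f)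
  · rcases n with _ | m
    · refine (extMk_zero_iff R _ (hcy x)).trans ⟨fun h => Or.inl ⟨rfl, ?_⟩, fun h => ?_⟩
      · exact (sec 0).symm.injective (h.trans (map_zero (sec 0).symm).symm)
      · rcases h with ⟨-, h0⟩ | ⟨q, hq, -⟩
        · rw [h0, map_zero]
        · omega
    · refine (R.extMk_eq_zero_iff _ (m + 1 + 1) rfl (hcy x) m rfl).trans ⟨?_, ?_⟩
      · rintro ⟨g, hg⟩
        refine Or.inr ⟨m, rfl, sec m g, ?_⟩
        change d m (sec m g) = x.1
        rw [← hd, hg, AddEquiv.apply_symm_apply]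
      · rintro (⟨h, -⟩ | ⟨q, hq, y, hy⟩)
        · omega
        · obtain rfl : q = m := by omega
          refine ⟨(sec q).symm y, (sec (q + 1)).injective ?_⟩
          rw [hd, AddEquiv.apply_symm_apply, AddEquiv.apply_symm_apply]
          exact hy

end ext

section sections

variable {D : Type u} [Category.{v} D] {J : GrothendieckTopology D} [HasSheafify J AddCommGrpCat.{w}]
  {T : D} (hT : IsTerminal T)

/-- Maps out of the constant sheaf are global sections. -/
noncomputable def secZ (K : Sheaf J AddCommGrpCat.{w}) :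
    ((constantSheaf J AddCommGrpCat.{w}).obj (AddCommGrpCat.of (ULift.{w} ℤ)) ⟶ K) ≃+ K.obj.obj (op T) :=
  ((constantSheafAdj J AddCommGrpCat.{w} hT).homAddEquiv _ K).trans
    (AddCommGrpCat.uliftZMultiplesAddEquiv _)

theorem secZ_comp {K K' : Sheaf J AddCommGrpCat.{w}}
    (φ : (constantSheaf J AddCommGrpCat.{w}).obj (AddCommGrpCat.of (ULift.{w} ℤ)) ⟶ K) (g : K ⟶ K') :
    secZ hT K' (φ ≫ g) = g.hom.app (op T) (secZ hT K φ) := by
  simp only [secZ, AddEquiv.trans_apply, Adjunction.homAddEquiv_apply,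
    Adjunction.homEquiv_naturality_right]
  rfl

end sections

end Groth.Agent.EtDesc45
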