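import Groth.Agent.EtDesc45.Engine
import Mathlib.AlgebraicTopology.CechNerve

/-!
The Čech nerve of a morphism of schemes on the big etale site; the split case.
-/

set_option autoImplicit false
set_option linter.unusedVariables false
set_option backward.isDefEq.respectTransparency.types false
universe u

open CategoryTheory CategoryTheory.Limits AlgebraicGeometry Opposite Simplicial
open Groth.Agent.Big45

namespace Groth.Agent.EtDesc45

variable {X Y : Scheme.{u}} (f : X ⟶ Y)

/-- The Čech nerve as a simplicial object over the base. -/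
noncomputable def cech : SimplicialObject (Over Y) where
  obj n := Over.mk (WidePullback.base (fun _ : Fin (n.unop.len + 1) => f) :
    widePullback Y (fun _ : Fin (n.unop.len + 1) => X) (fun _ => f) ⟶ Y)
  map {m n} φ := Over.homMk (WidePullback.lift (WidePullback.base _)
    (fun i => WidePullback.π _ (φ.unop.toOrderHom i)) (fun i => WidePullback.π_arrow _ _))
    (WidePullback.lift_base _ _ _ _)
  map_id m := by
    ext
    apply WidePullback.hom_ext
    · intro j; simp; erw [WidePullback.lift_π]
    · simp; erw [WidePullback.lift_base]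
  map_comp φ ψ := by
    ext
    apply WidePullback.hom_ext
    · intro j; simp; erw [WidePullback.lift_π, WidePullback.lift_π, WidePullback.lift_π]
    · simp; erw [WidePullback.lift_base, WidePullback.lift_base, WidePullback.lift_base]

variable (s : Y ⟶ X) (hs : s ≫ f = 𝟙 Y)

/-- Prepending the section. -/
noncomputable def contr (n : ℕ) : (cech f) _⦋n⦌ ⟶ (cech f) _⦋n + 1⦌ :=
  Over.homMk (WidePullback.lift (WidePullback.base _)
      (Fin.cases (WidePullback.base _ ≫ s) (fun i => WidePullback.π _ i))
      (fun i => by
        induction i using Fin.cases with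
        | zero => simp [hs]
        | succ i => exact WidePullback.π_arrow _ _))
    (WidePullback.lift_base _ _ _ _)

/-- The first vertex of the split nerve. -/
noncomputable def contr₀ : Over.mk (𝟙 Y) ⟶ (cech f) _⦋0⦌ :=
  Over.homMk (WidePullback.lift (𝟙 Y) (fun _ => s) (fun _ => hs)) (WidePullback.lift_base _ _ _ _)

include hs in
theorem contr_δ_zero (n : ℕ) : contr f s hs n ≫ (cech f).δ 0 = 𝟙 _ := by
  ext
  apply WidePullback.hom_ext
  · intro i
    simp [contr, cech, SimplicialObject.δ, SimplexCategory.δ]
    erw [WidePullback.lift_π, WidePullback.lift_π]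
    simp
  · simp [contr, cech, SimplicialObject.δ]
    erw [WidePullback.lift_base, WidePullback.lift_base]

include hs in
theorem contr_δ_succ (n : ℕ) (i : Fin (n + 2)) :
    contr f s hs (n + 1) ≫ (cech f).δ i.succ = (cech f).δ i ≫ contr f s hs n := by
  ext
  apply WidePullback.hom_ext
  · intro j
    induction j using Fin.cases
    · simp [contr, cech, SimplicialObject.δ, SimplexCategory.δ]
      erw [WidePullback.lift_π, WidePullback.lift_π, WidePullback.lift_π]
      simp
      erw [← Category.assoc, WidePullback.lift_base]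
    · simp [contr, cech, SimplicialObject.δ, SimplexCategory.δ]
      erw [WidePullback.lift_π, WidePullback.lift_π, WidePullback.lift_π]
      simp
      erw [WidePullback.lift_π]
  · simp [contr, cech, SimplicialObject.δ]
    erw [WidePullback.lift_base, WidePullback.lift_base, WidePullback.lift_base, WidePullback.lift_base]

include hs in
theorem contr_δ_one : contr f s hs 0 ≫ (cech f).δ 1 = toBase (cech f) ≫ contr₀ f s hs := by
  have hb : (toBase (cech f)).left = WidePullback.base _ :=
    ((Category.comp_id _).symm.trans (Over.w (toBase (cech f))))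
  ext
  apply WidePullback.hom_ext
  · intro j
    simp [contr, contr₀, cech, SimplicialObject.δ, SimplexCategory.δ]
    fin_cases j
    simp [hb]
    erw [WidePullback.lift_π, WidePullback.lift_π, WidePullback.lift_π]
    simp
  · simp [contr, contr₀, cech, SimplicialObject.δ, hb]
    erw [WidePullback.lift_base, WidePullback.lift_base, WidePullback.lift_base]
    exact (Category.comp_id _).symm

theorem map_map (F : (Over Y)ᵒᵖ ⥤ AddCommGrpCat.{u + 1}) {a b c : Over Y} (α : a ⟶ b) (β : b ⟶ c)
    (x : F.obj (op c)) : F.map α.op (F.map β.op x) = F.map (α ≫ β).op x :=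
  (ConcreteCategory.congr_hom (F.map_comp β.op α.op) x).symm

include hs in
theorem exact_of_section (F : (Over Y)ᵒᵖ ⥤ AddCommGrpCat.{u + 1}) (n : ℕ)
    (x : F.obj (op ((cech f) _⦋n + 1⦌)))
    (hx : AlgebraicTopology.AlternatingCofaceMapComplex.objD (cofn (cech f) F) (n + 1) x = 0) :
    ∃ y, AlgebraicTopology.AlternatingCofaceMapComplex.objD (cofn (cech f) F) n y = x := by
  refine ⟨F.map (contr f s hs n).op x, ?_⟩
  have h := congrArg (fun r => F.map (contr f s hs (n + 1)).op r) ((objD_eq _ F (n + 1) x).symm.trans hx)
  simp only [map_zero, map_sum, map_zsmul, map_map] at h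
  rw [Fin.sum_univ_succ] at h
  simp only [contr_δ_zero f s hs, contr_δ_succ f s hs, Fin.val_zero, pow_zero, one_zsmul, op_id,
    CategoryTheory.Functor.map_id, ConcreteCategory.id_apply, Fin.val_succ, pow_succ, mul_neg, mul_one, neg_zsmul,
    Finset.sum_neg_distrib] at h
  rw [objD_eq]
  simp only [map_map]
  exact (eq_of_sub_eq_zero ((sub_eq_add_neg _ _).trans h)).symm

include hs in
theorem aug_of_section (F : (Over Y)ᵒᵖ ⥤ AddCommGrpCat.{u + 1}) :
    Function.Injective (F.map (toBase (cech f)).op) ∧
      ∀ z, AlgebraicTopology.AlternatingCofaceMapComplex.objD (cofn (cech f) F) 0 z = 0 →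
        ∃ x, F.map (toBase (cech f)).op x = z := by
  refine ⟨fun x x' e => ?_, fun z hz => ⟨F.map (contr₀ f s hs).op z, ?_⟩⟩
  · have h := congrArg (fun r => F.map (contr₀ f s hs).op r) e
    simp only [map_map] at h
    rwa [Over.mkIdTerminal.hom_ext (contr₀ f s hs ≫ toBase (cech f)) (𝟙 _), op_id,
      CategoryTheory.Functor.map_id, ConcreteCategory.id_apply, ConcreteCategory.id_apply] at h
  · have h := congrArg (fun r => F.map (contr f s hs 0).op r) ((objD_eq _ F 0 z).symm.trans hz)
    simp only [map_zero, Fin.sum_univ_two, map_add, map_zsmul, map_map] at h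
    erw [Fin.sum_univ_two] at h
    simp only [map_add, map_zsmul, map_map, map_zero] at h
    simp only [contr_δ_zero f s hs, contr_δ_one f s hs, Fin.val_zero, Fin.val_one, pow_zero, pow_one,
      one_zsmul, neg_one_zsmul, op_id, CategoryTheory.Functor.map_id, ConcreteCategory.id_apply] at h
    rw [map_map]
    exact (eq_of_sub_eq_zero ((sub_eq_add_neg _ _).trans h)).symm

include hs in
/-- The descent spectral sequence of a morphism with a section. -/
theorem exists_descent_of_section (F : EtCoh.Ab Y) :
    ∃ (E : CohomologicalSpectralSequence AddCommGrpCat.{u + 1} 1)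
      (a : SpSeq.Abutment E (fun n : ℤ =>
        if 0 ≤ n then AddCommGrpCat.of (EtCoh.H Y F n.toNat) else AddCommGrpCat.of PUnit.{u + 2})),
      (∀ n, a.IsFinite n) ∧ SpSeq.IsBounded E ∧
      ∀ p q : ℤ, Nonempty ((E.page 1 le_rfl).X (p, q) ≅
        (if 0 ≤ p ∧ 0 ≤ q then
          AddCommGrpCat.of (EtCoh.H ((cech f) _⦋p.toNat⦌).left
            ((EtCoh.pull ((cech f) _⦋p.toNat⦌).hom).obj F) q.toNat)
         else AddCommGrpCat.of PUnit.{u + 2})) :=
  exists_descent (cech f) F fun R =>
    ⟨fun p q x hx => exact_of_section f s hs _ p x hx, fun q => aug_of_section f s hs _⟩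

end Groth.Agent.EtDesc45
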