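import Groth.Agent.Big45.Coh
import Groth.Agent.Big45.Shriek
import Groth.Agent.EtDesc45.Ext
import Groth.Agent.Desc45.RowExact
import Groth.Agent.LocCohZ46.Derived
import Mathlib.AlgebraicTopology.AlternatingFaceMapComplex

/-!
Descent spectral sequences for etale cohomology from injective resolutions on the big etale site.
-/

set_option autoImplicit false
set_option linter.unusedVariables false
set_option backward.isDefEq.respectTransparency.types false
universe u

open CategoryTheory CategoryTheory.Limits AlgebraicGeometry Opposite Simplicial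
open AlgebraicTopology Groth.Agent.SpSeq49 Groth.Agent.Big45

namespace Groth.Agent.EtDesc45

variable {Y : Scheme.{u}} (P : SimplicialObject (Over Y)) {E : BigSite.Ab Ket Y}
  (R : InjectiveResolution E)

/-- The cosimplicial group of sections of a presheaf. -/
abbrev cofn (F : (Over Y)ᵒᵖ ⥤ AddCommGrpCat.{u + 1}) : CosimplicialObject AddCommGrpCat.{u + 1} :=
  P.rightOp ⋙ F

theorem objD_eq (F : (Over Y)ᵒᵖ ⥤ AddCommGrpCat.{u + 1}) (n : ℕ) (x : F.obj (op (P _⦋n⦌))) :
    AlternatingCofaceMapComplex.objD (cofn P F) n x =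
      ∑ i : Fin (n + 2), (-1 : ℤ) ^ (i : ℕ) • F.map (P.δ i).op x := by
  let ev : ((cofn P F).obj ⦋n⦌ ⟶ (cofn P F).obj ⦋n + 1⦌) →+ F.obj (op (P _⦋n + 1⦌)) :=
    AddMonoidHom.mk' (fun φ => φ x) fun _ _ => rfl
  change ev _ = _
  rw [AlternatingCofaceMapComplex.objD, map_sum]
  refine Finset.sum_congr rfl fun i _ => ?_
  rw [map_zsmul]
  rfl

theorem objD_nat {F G : (Over Y)ᵒᵖ ⥤ AddCommGrpCat.{u + 1}} (g : F ⟶ G) (n : ℕ)
    (x : F.obj (op (P _⦋n⦌))) :
    AlternatingCofaceMapComplex.objD (cofn P G) n (g.app _ x) =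
      g.app _ (AlternatingCofaceMapComplex.objD (cofn P F) n x) := by
  rw [objD_eq, objD_eq, map_sum]
  refine Finset.sum_congr rfl fun i _ => ?_
  rw [map_zsmul]
  congr 1
  exact (ConcreteCategory.congr_hom (g.naturality (P.δ i).op) x).symm

/-- The double complex of sections of an injective resolution on a simplicial scheme. -/
noncomputable def dc : DC.{u + 1} where
  Φ p q := (R.cocomplex.X q).obj.obj (op (P _⦋p⦌))
  v p q := ((R.cocomplex.d q (q + 1)).hom.app (op (P _⦋p⦌))).hom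
  h p q := (AlternatingCofaceMapComplex.objD (cofn P (R.cocomplex.X q).obj) p).hom
  vv p q x := ConcreteCategory.congr_hom (NatTrans.congr_app
    (congrArg (fun r => r.hom) (R.cocomplex.d_comp_d q (q + 1) (q + 1 + 1))) _) x
  hh p q x := ConcreteCategory.congr_hom
    (AlternatingCofaceMapComplex.d_squared (cofn P (R.cocomplex.X q).obj) p) x
  comm p q x := objD_nat P (R.cocomplex.d q (q + 1)).hom p x

/-- The map to the base. -/
noncomputable abbrev toBase : P _⦋0⦌ ⟶ Over.mk (𝟙 Y) := Over.mkIdTerminal.from _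

theorem h_toBase (q : ℕ) (x : (R.cocomplex.X q).obj.obj (op (Over.mk (𝟙 Y)))) :
    (dc P R).h 0 q ((R.cocomplex.X q).obj.map (toBase P).op x) = 0 := by
  refine (objD_eq P _ 0 _).trans ?_
  have e : ∀ i, (R.cocomplex.X q).obj.map (P.δ i).op ((R.cocomplex.X q).obj.map (toBase P).op x) =
      (R.cocomplex.X q).obj.map (Over.mkIdTerminal.from (P _⦋0 + 1⦌)).op x := fun i => by
    rw [← ConcreteCategory.comp_apply, ← Functor.map_comp, ← op_comp,
      Over.mkIdTerminal.hom_ext (P.δ i ≫ toBase P) (Over.mkIdTerminal.from _)]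
  rw [Fin.sum_univ_two]
  erw [e 0, e 1]
  simp
  rfl

/-- Exactness at the augmentation. -/
def AugExact : Prop :=
  ∀ q : ℕ, Function.Injective ((R.cocomplex.X q).obj.map (toBase P).op) ∧
    ∀ z, (dc P R).h 0 q z = 0 → ∃ x, (R.cocomplex.X q).obj.map (toBase P).op x = z

/-- Isomorphism of a structure object with the top object of its small site. -/
noncomputable def topIso (W : Over Y) :
    (Over.map W.hom).obj ((EtFppf.a W.left).obj (EtCoh.top W.left)) ≅ W :=
  Over.isoMk (Iso.refl _) (by simp [EtCoh.top, Scheme.Etale.mk, MorphismProperty.Over.forget]; rfl)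

theorem nonempty_col_iso (p q : ℕ) :
    Nonempty (((dc P R).tot {p}).homology ((p : ℤ) + q) ≅
      AddCommGrpCat.of (EtCoh.H (P _⦋p⦌).left ((BigSite.resEtAlong Ket (P _⦋p⦌).hom).obj E) q)) := by
  let W := P _⦋p⦌
  let R' := LocCohZ46.mapRes (BigSite.resEtAlong Ket W.hom)
    (fun I hI => by have := hI; exact inferInstance) R
  let sec : ∀ n, ((constantSheaf W.left.smallEtaleTopology AddCommGrpCat.{u + 1}).obj
      (AddCommGrpCat.of (ULift.{u + 1} ℤ)) ⟶ R'.cocomplex.X n) ≃+ (dc P R).Φ p n := fun n =>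
    (secZ (EtCore.topIsTerminal W.left) (R'.cocomplex.X n)).trans
      ((R.cocomplex.X n).obj.mapIso (topIso W).op.symm).addCommGroupIsoToAddEquiv
  obtain ⟨θ, hθ, hker⟩ := exists_theta R' sec ((dc P R).v p) (fun n f => by
    simp only [sec, AddEquiv.trans_apply]
    rw [secZ_comp]
    exact (ConcreteCategory.congr_hom
      ((R.cocomplex.d n (n + 1)).hom.naturality (topIso W).op.symm.hom) _).symm) q
  exact (dc P R).nonempty_column_iso p q θ hθ hker

theorem nonempty_tot_iso (hr : Desc45.RowExact (dc P R)) (ha : AugExact P R) (n : ℕ) :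
    Nonempty (((dc P R).tot Set.univ).homology (n : ℤ) ≅ AddCommGrpCat.of (BigSite.H Ket Y E n)) := by
  let M : ℕ → Type (u + 1) := fun m => (R.cocomplex.X m).obj.obj (op (Over.mk (𝟙 Y)))
  let res : ∀ m, M m →+ (dc P R).Φ 0 m := fun m => ((R.cocomplex.X m).obj.map (toBase P).op).hom
  let d : ∀ m, M m →+ M (m + 1) := fun m => ((R.cocomplex.d m (m + 1)).hom.app _).hom
  have res_d : ∀ m x, (dc P R).v 0 m (res m x) = res (m + 1) (d m x) := fun m x =>
    ConcreteCategory.congr_hom ((R.cocomplex.d m (m + 1)).hom.naturality (toBase P).op) x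
  let sec : ∀ m, ((constantSheaf (QuotSh.J Ket Y) AddCommGrpCat.{u + 1}).obj
      (AddCommGrpCat.of (ULift.{u + 1} ℤ)) ⟶ R.cocomplex.X m) ≃+ M m := fun m =>
    secZ Over.mkIdTerminal (R.cocomplex.X m)
  obtain ⟨θ, hθ, hker⟩ := exists_theta R sec d (fun m f => secZ_comp _ f _) n
  choose lift hlift using fun (z : Desc45.rowCycles (dc P R) n) => (ha n).2 z.1 z.2.2
  have hres : ∀ m, Function.Injective (res m) := fun m => (ha m).1
  let c : Desc45.rowCycles (dc P R) n →+ (d n).ker :=
    AddMonoidHom.mk' (fun z => ⟨lift z, hres (n + 1) (by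
        rw [← res_d, map_zero]
        exact (congrArg ((dc P R).v 0 n) (hlift z)).trans z.2.1)⟩) fun a b => Subtype.ext (hres n (by
      refine (hlift (a + b)).trans ?_
      change _ = res n (lift a + lift b)
      rw [map_add]
      exact (congrArg₂ (· + ·) (hlift a) (hlift b)).symm))
  have hc : ∀ z, res n (c z).1 = z.1 := hlift
  refine Desc45.nonempty_tot_iso_of_rows _ hr n (θ.comp c) ?_ fun z => ?_
  · intro a
    obtain ⟨x, hx⟩ := hθ a
    refine ⟨⟨res n x.1, ?_, h_toBase P R n x.1⟩, ?_⟩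
    · change (dc P R).v 0 n (res n x.1) = 0
      rw [res_d]
      exact (congrArg (res (n + 1)) x.2).trans (map_zero _)
    · refine (congrArg θ (Subtype.ext ?_)).trans hx
      exact hres n (hc _)
  · refine (hker (c z)).trans ⟨?_, ?_⟩
    · rintro (⟨rfl, h0⟩ | ⟨m, rfl, y, hy⟩)
      · refine Or.inl ⟨rfl, ?_⟩
        rw [← hc z, h0, map_zero]
      · refine Or.inr ⟨m, rfl, res m y, h_toBase P R m y, ?_⟩
        change (dc P R).v 0 m (res m y) = z.1
        rw [res_d, ← hc z]
        exact congrArg (res (m + 1)) hy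
    · rintro (⟨rfl, h0⟩ | ⟨m, rfl, y, hy0, hy⟩)
      · exact Or.inl ⟨rfl, hres 0 ((hc z).trans (h0.trans (map_zero _).symm))⟩
      · obtain ⟨x, rfl⟩ := (ha m).2 y hy0
        refine Or.inr ⟨m, rfl, x, hres (m + 1) ?_⟩
        exact (res_d m x).symm.trans (hy.trans (hc z).symm)

/-- The descent spectral sequence of a simplicial scheme over `Y` with exact rows. -/
theorem exists_descent (F : EtCoh.Ab Y)
    (h : ∀ R : InjectiveResolution ((BigSite.piEtPull Ket Y).obj F),
      Desc45.RowExact (dc P R) ∧ AugExact P R) :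
    ∃ (E : CohomologicalSpectralSequence AddCommGrpCat.{u + 1} 1)
      (a : SpSeq.Abutment E (fun n : ℤ =>
        if 0 ≤ n then AddCommGrpCat.of (EtCoh.H Y F n.toNat) else AddCommGrpCat.of PUnit.{u + 2})),
      (∀ n, a.IsFinite n) ∧ SpSeq.IsBounded E ∧
      ∀ p q : ℤ, Nonempty ((E.page 1 le_rfl).X (p, q) ≅
        (if 0 ≤ p ∧ 0 ≤ q then
          AddCommGrpCat.of (EtCoh.H (P _⦋p.toNat⦌).left ((EtCoh.pull (P _⦋p.toNat⦌).hom).obj F) q.toNat)
         else AddCommGrpCat.of PUnit.{u + 2})) := by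
  have : EnoughInjectives (BigSite.Ab Ket Y) := IsGrothendieckAbelian.enoughInjectives.{u + 1}
  let R := InjectiveResolution.of ((BigSite.piEtPull Ket Y).obj F)
  refine (dc P R).exists_spectralSequence (fun n => ?_)
    (fun p q => AddCommGrpCat.of (EtCoh.H (P _⦋p⦌).left ((EtCoh.pull (P _⦋p⦌).hom).obj F) q))
    (fun p q => ?_)
    (fun pq => if 0 ≤ pq.1 ∧ 0 ≤ pq.2 then
        AddCommGrpCat.of (EtCoh.H (P _⦋pq.1.toNat⦌).left
          ((EtCoh.pull (P _⦋pq.1.toNat⦌).hom).obj F) pq.2.toNat)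
      else AddCommGrpCat.of PUnit.{u + 2})
    (fun p q => ⟨eqToIso (if_pos ⟨Int.natCast_nonneg p, Int.natCast_nonneg q⟩).symm⟩)
    (fun p q hpq => ?_)
  · by_cases hn : 0 ≤ n
    · obtain ⟨m, rfl⟩ := Int.eq_ofNat_of_zero_le hn
      obtain ⟨e⟩ := nonempty_tot_iso P R (h R).1 (h R).2 m
      exact ⟨e ≪≫ AddEquiv.toAddCommGrpIso ((hResEquiv Y ((BigSite.piEtPull Ket Y).obj F) m).symm.trans
        (hCongr _ ((piResIso Y).app F).symm m)) ≪≫
        eqToIso (if_pos (Int.natCast_nonneg m)).symm⟩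
    · rw [if_neg hn]
      refine ⟨(ShortComplex.isZero_homology_of_isZero_X₂ _
        ((dc P R).isZero_tot_X Set.univ n fun p _ => by omega)).iso ?_⟩
      exact AddCommGrpCat.isZero_of_subsingleton _
  · obtain ⟨e⟩ := nonempty_col_iso P R p q
    exact ⟨e ≪≫ AddEquiv.toAddCommGrpIso (hCongr _ ((piPullIso (P _⦋p⦌).hom).app F) q)⟩
  · rw [if_neg (by omega)]
    exact AddCommGrpCat.isZero_of_subsingleton _

end Groth.Agent.EtDesc45
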